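import Cfsg.Agent.Co2Type.FactsD

/-!
# Certificates for the multiplier of `Spor.Co2` (helper927)

The 77 words of weight 16 of `E` under an element `Pt` of order 11 of `M22`, and relations between the seven orbits.
-/

set_option autoImplicit false
set_option linter.dupNamespace false

namespace Cfsg.Agent.KFacts.MulCoTwo.Cert

open Cfsg Cfsg.Agent.SporadicA.GolayBase Cfsg.Agent.SporadicA.GolayPerm
open Cfsg.Agent.SporadicStructure.M24El
open Cfsg.Agent.Co2Type.Mono Cfsg.Agent.Co2Type.TGroup Cfsg.Agent.Co2Type.TData Cfsg.Agent.Co2Type.FactsD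

/-- an element of order 11 of `M22` -/
def Pt : ℕ := 971636883918964837593465616046574208

/-- iterated images -/
def it (P : ℕ) : ℕ → ℕ → ℕ
  | 0, n => n
  | k + 1, n => pimg P (it P k n)

/-- powers -/
def pw (P : ℕ) : ℕ → ℕ
  | 0 => idP
  | k + 1 => pcomp P (pw P k)

def edges : List (ℕ × ℕ × ℕ × ℕ × ℕ × ℕ × ℕ × ℕ) := [
  (5731070, 9, 3406834, 3,
    4126422, 960176182231498553991904372184392288, 7, 2),
  (5731070, 0, 8345458, 8,
    3406834, 960176182231498553991904372184392288, 7, 2),
  (3406834, 3, 8364534, 2,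
    3140334, 979527180508828962460296519218401952, 7, 7),
  (3406834, 4, 7001086, 2,
    6946666, 979527180508828962460296519218401952, 7, 4),
  (8345458, 3, 7337022, 4,
    4135902, 973697131114080162928763891743248416, 3, 8),
  (7337022, 2, 6280668, 0,
    8183582, 973697131114080162928763891743248416, 3, 5)]

def reps : List ℕ := [3406834, 8364534, 5731070, 7001086, 7337022, 6280668, 8345458]

def W77 : List (ℕ × ℕ × ℕ) := [
  (1030138, 8345458, 8), (1441742, 6280668, 2), (1826430, 8364534, 3), (2030014, 8345458, 5),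
  (2060276, 3406834, 9), (2523006, 8364534, 9), (2883484, 3406834, 7), (3005942, 5731070, 5),
  (3140334, 3406834, 8), (3406834, 3406834, 0), (3652860, 7001086, 1), (3655614, 8364534, 10),
  (3715070, 8345458, 9), (3896814, 7001086, 7), (4030138, 3406834, 3), (4060028, 5731070, 3),
  (4120552, 7337022, 4), (4126422, 7337022, 6), (4135902, 7337022, 1), (4177702, 7001086, 3),
  (4189530, 5731070, 6), (4451838, 7337022, 5), (5046012, 8364534, 8), (5201838, 8345458, 4),
  (5241686, 7337022, 3), (5677046, 6280668, 4), (5731070, 5731070, 0), (5766968, 7001086, 10),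
  (5896118, 7337022, 8), (5930970, 5731070, 9), (6011884, 8364534, 7), (6110590, 6280668, 8),
  (6147066, 7001086, 4), (6219630, 6280668, 3), (6270622, 7001086, 8), (6280668, 6280668, 0),
  (6290658, 5731070, 8), (6667198, 5731070, 2), (6807258, 7001086, 6), (6813668, 8345458, 7),
  (6946666, 8364534, 2), (7001086, 7001086, 0), (7028470, 3406834, 2), (7170014, 7001086, 2),
  (7257550, 6280668, 1), (7270322, 3406834, 10), (7305720, 3406834, 6), (7311228, 5731070, 4),
  (7337022, 7337022, 0), (7430140, 7337022, 10), (7536302, 5731070, 10), (7583582, 6280668, 6),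
  (7665146, 6280668, 5), (7728758, 8345458, 10), (7793628, 8345458, 6), (7811050, 7337022, 7),
  (7830934, 8364534, 5), (7854446, 6280668, 10), (7993566, 8345458, 2), (8060276, 7001086, 5),
  (8088382, 3406834, 4), (8101306, 8345458, 1), (8114118, 5731070, 7), (8120056, 3406834, 1),
  (8158182, 7001086, 9), (8183582, 6280668, 9), (8230638, 6280668, 7), (8241104, 8364534, 1),
  (8252844, 7337022, 2), (8271804, 5731070, 1), (8277246, 8364534, 4), (8305274, 7337022, 9),
  (8345458, 8345458, 0), (8355404, 8345458, 3), (8364534, 8364534, 0), (8379060, 3406834, 5),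
  (8385418, 8364534, 6)]

def dec : List (ℕ × ℕ) := [
  (2030014, 6219630), (2030014, 4126422), (3140334, 4189530), (3652860, 4177702), (2883484, 3140334), (4060028, 4189530), (4126422, 4189530), (4030138, 4060028), (4177702, 4189530), (4120552, 4126422)]

/-- the check of an edge `(a, i, b, j, y, m, k, l)` -/
def chkEdge (e : ℕ × ℕ × ℕ × ℕ × ℕ × ℕ × ℕ × ℕ) : Bool :=
  match e with
  | (a, i, b, j, y, m, k, l) =>
    (okP m && Nat.blt m (2 ^ 120) && inE y && Nat.beq (popcount y) 16 && Nat.beq (k % 2) 1) &&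
    (Nat.beq (pimg m (it Pt i a)) (it Pt j b) && Nat.beq (pimg m y) (it Pt l y)) &&
    (Nat.beq (pimg m (Nat.xor (it Pt i a) y)) (Nat.xor (it Pt i a) y) && Nat.beq (it m k (it Pt i a)) (it Pt i a) &&
      Nat.beq (it m k y) y)

theorem edges_ok : (edges.all chkEdge) = true := by decide +kernel

theorem reps_ok : (reps.all fun r => inE r && Nat.beq (popcount r) 16) = true := by decide +kernel

theorem Pt_ok : (okP Pt && Nat.blt Pt (2 ^ 120) && Nat.beq (pw Pt 11) idP) = true := by decide +kernel

theorem Pt_fpf : allSp2 (B10.map fun b => (b, pimg Pt b)) (fun m m' => cond (Nat.beq m m') (Nat.beq m 0) true) 0 0 =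
    true := by decide +kernel

theorem W77_ok : (W77.all fun w => Nat.beq (it Pt w.2.2 w.2.1) w.1 && memL w.2.1 reps) = true := by decide +kernel

theorem W77_cover : allSp B10 (fun n => cond (Nat.beq (popcount n) 16) (memL n (W77.map Prod.fst)) true) 0 = true := by
  decide +kernel

theorem dec_ok : (eqL (dec.map fun d => Nat.xor d.1 d.2) B10 && dec.all fun d => inE d.1 && inE d.2 &&
    Nat.beq (popcount d.1) 16 && Nat.beq (popcount d.2) 16) = true := by decide +kernel

theorem sq_ok : (Nat.beq (Nat.xor (Nat.xor 8364534 5731070) (Nat.xor 4060028 8385418)) 7001086 &&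
    [8364534, 5731070, 4060028, 8385418, 7001086].all fun w => inE w && Nat.beq (popcount w) 16) = true := by
  decide +kernel

/-! ### consequences -/

theorem Pt_okP : okP Pt = true := by
  have := Pt_ok
  rw [Bool.and_eq_true, Bool.and_eq_true] at this
  exact this.1.1

theorem Pt_lt : Pt < 2 ^ 120 := by
  have := Pt_ok
  rw [Bool.and_eq_true, Bool.and_eq_true] at this
  exact Nat.blt_eq.mp this.1.2

theorem Pt_pw : pw Pt 11 = idP := by
  have := Pt_ok
  rw [Bool.and_eq_true, Bool.and_eq_true] at this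
  exact Nat.eq_of_beq_eq_true this.2

theorem fpf {n : ℕ} (hn : inE n = true) (h : pimg Pt n = n) : n = 0 := by
  have h1 := allSp2_pimg (isPerm_of_ok (ok_of_okP Pt_okP)) Pt_fpf (sp_B10 hn)
  rw [h, Nat.beq_refl, cond_true] at h1
  exact Nat.eq_of_beq_eq_true h1

/-- `n` is a word of weight 16 of `E` -/
def W16 (n : ℕ) : Prop := inE n = true ∧ popcount n = 16

theorem pw_okP {P : ℕ} (hP : okP P = true) (k : ℕ) : okP (pw P k) = true := by
  induction k with
  | zero => exact okP_idP
  | succ k ih => exact okP_pcomp hP ih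

theorem mo2_pow {P : ℕ} (hP : okP P = true) (k : ℕ) : (mo2 0 P) ^ k = mo2 0 (pw P k) := by
  induction k with
  | zero => rw [pow_zero]; exact mo2_one.symm
  | succ k ih =>
    rw [pow_succ', ih, mo2_mul inE_zero inE_zero hP (pw_okP hP k),
      pimg_zero (isPerm_of_ok (ok_of_okP hP)), Nat.xor_zero]
    rfl

theorem it_inE {P : ℕ} (hP : okP P = true) {n : ℕ} (hn : inE n = true) (k : ℕ) : inE (it P k n) = true := by
  induction k with
  | zero => exact hn
  | succ k ih => exact inE_pimg hP ih

/-- Induction along the span -/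
theorem sp_induction {Q : ℕ → Prop} (h0 : Q 0) (hx : ∀ a b, Q a → Q b → Q (a ^^^ b)) {l : List ℕ}
    (hl : ∀ b ∈ l, Q b) : ∀ {a : ℕ}, Sp l a → Q a := by
  induction l with
  | nil =>
    intro a h
    have : a = 0 := h
    rwa [this]
  | cons b l ih =>
    intro a h
    have ih' := @ih fun b' hb' => hl b' (List.mem_cons_of_mem _ hb')
    rcases h with h | h
    · exact ih' h
    · have h1 := hx _ _ (ih' h) (hl b (List.mem_cons_self ..))
      have e : (a ^^^ b) ^^^ b = a := by rw [Nat.xor_assoc, Nat.xor_self, Nat.xor_zero]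
      rwa [e] at h1

/-- a property which is additive and holds for the words of weight 16 holds on `E` -/
theorem E_induction {Q : ℕ → Prop} (h0 : Q 0) (hx : ∀ a b, Q a → Q b → Q (a ^^^ b))
    (h16 : ∀ n, W16 n → Q n) {n : ℕ} (hn : inE n = true) : Q n := by
  apply sp_induction h0 hx _ (sp_B10 hn)
  intro b hb
  have h1 := dec_ok
  rw [Bool.and_eq_true] at h1
  have h2 := eq_of_eqL h1.1
  rw [← h2, List.mem_map] at hb
  obtain ⟨d, hd, rfl⟩ := hb
  have h3 := List.all_eq_true.1 h1.2 d hd
  simp only [Bool.and_eq_true, Nat.beq_eq] at h3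
  exact hx _ _ (h16 _ ⟨h3.1.1.1, h3.1.2⟩) (h16 _ ⟨h3.1.1.2, h3.2⟩)

/-- the words of weight 16 are images of the seven -/
theorem exists_rep {n : ℕ} (hn : W16 n) : ∃ r ∈ reps, ∃ i, it Pt i r = n := by
  have h1 := allSp_zero W77_cover (sp_B10 hn.1)
  have h2 : Nat.beq (popcount n) 16 = true := by rw [hn.2]; rfl
  rw [h2, cond_true] at h1
  obtain ⟨w, hw, hwn⟩ := List.mem_map.1 (memL_iff.1 h1)
  have h3 := List.all_eq_true.1 W77_ok w hw
  rw [Bool.and_eq_true, Nat.beq_eq] at h3
  exact ⟨w.2.1, memL_iff.1 h3.2, w.2.2, h3.1.trans hwn⟩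

theorem reps_W16 {r : ℕ} (hr : r ∈ reps) : W16 r := by
  have h1 := List.all_eq_true.1 reps_ok r hr
  rw [Bool.and_eq_true, Nat.beq_eq] at h1
  exact h1

end Cfsg.Agent.KFacts.MulCoTwo.Cert
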