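import Mathlib

/-!
# A half of an elementary abelian group, from a fixed-point-free element of odd order (helper927)
-/

set_option autoImplicit false

namespace Cfsg.Agent.KFacts.MulCoTwo.Half

open Subgroup

variable {L : Type*} [Group L] {c : L} {A : Subgroup L}

theorem comm_of_sq (sq : ∀ a ∈ A, a * a = 1) {x y : L} (hx : x ∈ A) (hy : y ∈ A) : x * y = y * x := by
  have h1 := sq _ (A.mul_mem hx hy)
  have h2 : (x * y)⁻¹ = x * y := inv_eq_of_mul_eq_one_left h1
  rw [← h2, mul_inv_rev, inv_eq_of_mul_eq_one_left (sq x hx), inv_eq_of_mul_eq_one_left (sq y hy)]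

/-- `g` of odd order on `A` with fixed points `{1, c}`: `[A, g]` has index 2 in `A` and does not contain `c`. -/
theorem exists_half [Finite L] (hc1 : c ≠ 1) (hcen : ∀ x : L, c * x = x * c) (hcA : c ∈ A)
    (sq : ∀ a ∈ A, a * a = 1) {g : L} (hg : ∀ a ∈ A, g * a * g⁻¹ ∈ A) {k : ℕ} (hk2 : Odd k)
    (hk : ∀ a ∈ A, g ^ k * a * (g ^ k)⁻¹ = a) (fpf : ∀ a ∈ A, g * a * g⁻¹ = a → a = 1 ∨ a = c) :
    ∃ R : Subgroup L, R ≤ A ∧ c ∉ R ∧ (∀ a ∈ A, a ∈ R ∨ c * a ∈ R) ∧ ∀ a ∈ A, g * a * g⁻¹ * a ∈ R := by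
  have hcc := sq c hcA
  let f : A →* L :=
    { toFun := fun a => g * a * g⁻¹ * a
      map_one' := by simp
      map_mul' := by
        intro a b
        have h1 : g * (b : L) * g⁻¹ ∈ A := hg b b.2
        show g * ((a * b : A) : L) * g⁻¹ * ((a * b : A) : L) = g * a * g⁻¹ * a * (g * b * g⁻¹ * b)
        rw [coe_mul]
        calc g * (a * b : L) * g⁻¹ * (a * b) = (g * a * g⁻¹) * (g * b * g⁻¹ * a) * b := by group
          _ = (g * a * g⁻¹) * (a * (g * b * g⁻¹)) * b := by rw [comm_of_sq sq h1 a.2]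
          _ = _ := by group }
  have f_apply : ∀ a : A, f a = g * a * g⁻¹ * a := fun a => rfl
  have hle : f.range ≤ A := by
    rintro _ ⟨a, rfl⟩
    exact A.mul_mem (hg a a.2) a.2
  have hcR : c ∉ f.range := by
    rintro ⟨a, ha⟩
    rw [f_apply] at ha
    have haa := sq a a.2
    have h1 : g * (a : L) * g⁻¹ = c * a := by
      rw [← ha, mul_assoc (g * (a : L) * g⁻¹), haa, mul_one]
    have h2 : ∀ j : ℕ, g ^ j * (a : L) * (g ^ j)⁻¹ = c ^ j * a := by
      intro j
      induction j with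
      | zero => simp
      | succ j ih =>
        have e : g ^ (j + 1) * (a : L) * (g ^ (j + 1))⁻¹ = g * (g ^ j * a * (g ^ j)⁻¹) * g⁻¹ := by
          rw [pow_succ']; group
        have hcj : Commute (c ^ j) g := (show Commute c g from hcen g).pow_left j
        rw [e, ih]
        calc g * (c ^ j * (a : L)) * g⁻¹ = (g * c ^ j) * a * g⁻¹ := by group
          _ = (c ^ j * g) * a * g⁻¹ := by rw [hcj.eq]
          _ = c ^ j * (g * a * g⁻¹) := by group
          _ = c ^ j * (c * a) := by rw [h1]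
          _ = c ^ (j + 1) * a := by rw [pow_succ]; group
    have h3 := h2 k
    rw [hk a a.2] at h3
    obtain ⟨m, rfl⟩ := hk2
    rw [pow_succ, pow_mul, pow_two, hcc, one_pow, one_mul] at h3
    exact hc1 (mul_eq_right.1 h3.symm)
  have hker : ∀ a : A, a ∈ f.ker ↔ (a : L) = 1 ∨ (a : L) = c := by
    intro a
    rw [MonoidHom.mem_ker, f_apply]
    have haa := sq a a.2
    constructor
    · intro h
      apply fpf a a.2
      have : g * (a : L) * g⁻¹ = (a : L)⁻¹ := eq_inv_of_mul_eq_one_left h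
      rw [this, inv_eq_of_mul_eq_one_left haa]
    · rintro (h | h)
      · rw [h]; group
      · rw [h, ← hcen g, mul_assoc c g, mul_inv_cancel, mul_one]
        exact hcc
  have hck : Nat.card f.ker = 2 := by
    rw [Nat.card_eq_two_iff]
    refine ⟨1, ⟨⟨c, hcA⟩, (hker _).2 (Or.inr rfl)⟩, ?_, ?_⟩
    · intro h
      have h' : (1 : L) = c := congrArg (fun x : f.ker => ((x : A) : L)) h
      exact hc1 h'.symm
    · ext x
      simp only [Set.mem_insert_iff, Set.mem_singleton_iff, Set.mem_univ, iff_true]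
      rcases (hker x).1 x.2 with h | h
      · left; exact Subtype.ext (Subtype.ext h)
      · right; exact Subtype.ext (Subtype.ext h)
  have hcr : Nat.card A = 2 * Nat.card f.range := by
    have h1 := Subgroup.card_eq_card_quotient_mul_card_subgroup f.ker
    rw [hck, Nat.card_congr (QuotientGroup.quotientKerEquivRange f).toEquiv] at h1
    rw [h1, mul_comm]
  have h2 : (f.range.subgroupOf A).index = 2 := by
    have h1 := (f.range.subgroupOf A).card_mul_index
    rw [hcr, Nat.card_congr (subgroupOfEquivOfLe hle).toEquiv, mul_comm] at h1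
    have h4 : 0 < Nat.card f.range := Nat.card_pos
    exact Nat.eq_of_mul_eq_mul_right h4 h1
  refine ⟨f.range, hle, hcR, fun a ha => ?_, fun a ha => ⟨⟨a, ha⟩, rfl⟩⟩
  by_cases h : a ∈ f.range
  · exact Or.inl h
  · right
    have := (Subgroup.mul_mem_iff_of_index_two h2 (a := ⟨c, hcA⟩) (b := ⟨a, ha⟩)).2
      (iff_of_false (fun h' => hcR h') (fun h' => h h'))
    exact this

end Cfsg.Agent.KFacts.MulCoTwo.Half
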