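import Cfsg.Agent.KFacts.MulCoTwo.Cert
import Cfsg.Agent.KFacts.MulCoTwo.Half
import Cfsg.Agent.KFacts.MulSpor.Class
import Cfsg.Agent.KFacts.CoTwo.Perf
import Cfsg.Agent.Co2Type.FactsCo2

/-!
# The lift of `E = 2^10 ≤ Spor.Co2` to a double cover splits (helper927)
-/

set_option autoImplicit false
set_option linter.dupNamespace false

namespace Cfsg.Agent.KFacts.MulCoTwo.Lift

open Cfsg Cfsg.Agent.SporadicA.GolayBase Cfsg.Agent.SporadicA.GolayPerm
open Cfsg.Agent.SporadicStructure.M24El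
open Cfsg.Agent.Co2Type.Mono Cfsg.Agent.Co2Type.TGroup Cfsg.Agent.Co2Type.TData Cfsg.Agent.Co2Type.FactsD
open Cfsg.Agent.Co2Type.Facts Cfsg.Agent.Co2Type.FactsCo2
open Cfsg.Agent.KFacts.MulDef Cfsg.Agent.KFacts.MulSpor.Class Cfsg.Agent.KFacts.MulCoTwo.Cert
open scoped commutatorElement

variable {L : Type*} [Group L] {π : L →* Spor.Co2} {c : L}

theorem cent_perf : commutator (Subgroup.centralizer ({ge mz} : Set Spor.Co2)) = ⊤ := by
  apply Subgroup.map_injective (Subgroup.centralizer ({ge mz} : Set Spor.Co2)).subtype_injective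
  rw [commutator_def, Subgroup.map_commutator, ← MonoidHom.range_eq_map, Subgroup.range_subtype]
  exact Cfsg.Agent.KFacts.CoTwo.Perf.commutator_P

theorem conj_W16 {n : ℕ} (hn : W16 n) : IsConj (ge mz) (ge n) := by
  apply (tr_eq_iff (ge_sq hn.1)).2
  show tr (mo2 n idP) = -8
  rw [Cfsg.Agent.Co2Type.FactsClass.tr_E hn.1, hn.2]
  norm_num

theorem W16_of_conj {n : ℕ} (hn : inE n = true) (h : IsConj (ge mz) (ge n)) : W16 n := by
  refine ⟨hn, ?_⟩
  have h1 := (tr_eq_iff (ge_sq hn)).1 h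
  have h2 : tr (ge n) = 24 - 2 * (popcount n : ℤ) := Cfsg.Agent.Co2Type.FactsClass.tr_E hn
  omega

theorem W16_mz : W16 mz := ⟨iz, by decide +kernel⟩

theorem W16_pimg {P n : ℕ} (hP : okP P = true) (hlt : P < 2 ^ 120) (hn : W16 n) : W16 (pimg P n) := by
  apply W16_of_conj (inE_pimg hP hn.1)
  exact (conj_W16 hn).trans (isConj_iff.2 ⟨mo2 0 P, conj_ge hP hlt hn.1 rfl⟩)

theorem W16_it {P n : ℕ} (hP : okP P = true) (hlt : P < 2 ^ 120) (hn : W16 n) (k : ℕ) : W16 (it P k n) := by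
  induction k with
  | zero => exact hn
  | succ k ih => exact W16_pimg hP hlt ih

/-- a lift of an element of weight 16 commutes with the lifts of the elements of the centraliser -/
theorem commW (hd : Dbl π c) {n : ℕ} (hn : W16 n) {x g : L} (hx : π x = ge n)
    (hg : π g * ge n = ge n * π g) : g * x = x * g := by
  obtain ⟨k, hk⟩ := isConj_iff.1 (conj_W16 hn)
  obtain ⟨k, rfl⟩ := hd.surj k
  have h1 : π (k⁻¹ * x * k) = ge mz := by
    rw [map_mul, map_mul, map_inv, hx, ← hk]; group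
  have h2 : π (k⁻¹ * g * k) * ge mz = ge mz * π (k⁻¹ * g * k) := by
    rw [map_mul, map_mul, map_inv]
    calc (π k)⁻¹ * π g * π k * ge mz = (π k)⁻¹ * (π g * (π k * ge mz * (π k)⁻¹)) * π k := by group
      _ = (π k)⁻¹ * ((π k * ge mz * (π k)⁻¹) * π g) * π k := by rw [hk, hg]
      _ = _ := by group
  have h3 := comm_of_perfect hd cent_perf h1 h2
  calc g * x = k * ((k⁻¹ * g * k) * (k⁻¹ * x * k)) * k⁻¹ := by group
    _ = k * ((k⁻¹ * x * k) * (k⁻¹ * g * k)) * k⁻¹ := by rw [h3]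
    _ = x * g := by group

theorem central (hd : Dbl π c) {x : L} (hx : π x = 1) (y : L) : x * y = y * x := by
  rcases (hd.ker x).1 hx with rfl | rfl
  · rw [one_mul, mul_one]
  · exact hd.cen y

theorem mem_A_iff {x : L} : x ∈ E.comap π ↔ ∃ n, inE n = true ∧ π x = ge n := by
  rw [Subgroup.mem_comap, mem_E_iff]
  rfl

theorem A_comm (hd : Dbl π c) {x y : L} (hx : x ∈ E.comap π) (hy : y ∈ E.comap π) : x * y = y * x := by
  obtain ⟨n, hn, hxn⟩ := mem_A_iff.1 hx
  have key : ∀ n, inE n = true → (inE n = true ∧ ∀ x : L, π x = ge n → ∀ y ∈ E.comap π, x * y = y * x) := by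
    intro n hn
    refine E_induction (Q := fun n => inE n = true ∧ ∀ x : L, π x = ge n → ∀ y ∈ E.comap π, x * y = y * x)
      ⟨inE_zero, ?_⟩ ?_ ?_ hn
    · intro x hx y _
      rw [ge_zero] at hx
      exact central hd hx y
    · rintro a b ⟨ha, ha'⟩ ⟨hb, hb'⟩
      refine ⟨inE_xor ha hb, fun x hx y hy => ?_⟩
      obtain ⟨u, hu⟩ := hd.surj (ge a)
      have h1 : π (u⁻¹ * x) = ge b := by
        rw [map_mul, map_inv, hu, hx, ← ge_mul ha hb, inv_mul_cancel_left]
      have h2 := ha' u hu y hy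
      have h3 := hb' _ h1 y hy
      calc x * y = u * ((u⁻¹ * x) * y) := by group
        _ = (u * y) * (u⁻¹ * x) := by rw [h3]; group
        _ = y * x := by rw [h2]; group
    · intro n hn
      refine ⟨hn.1, fun x hx y hy => ?_⟩
      refine (commW hd hn hx ?_).symm
      obtain ⟨m, hm, hy'⟩ := mem_A_iff.1 hy
      rw [hy', ge_mul hm hn.1, ge_mul hn.1 hm, Nat.xor_comm]
  exact (key n hn).2 x hxn y hy

theorem sq_eq (hd : Dbl π c) {n n' : ℕ} (hn : W16 n) (hn' : W16 n') {x y : L} (hx : π x = ge n) (hy : π y = ge n') :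
    x * x = y * y := by
  obtain ⟨g, hg⟩ := isConj_iff.1 ((conj_W16 hn').symm.trans (conj_W16 hn))
  exact sq_conj hd g (by rw [hx, hy]; exact hg) (by rw [hy, ge_sq hn'.1])

theorem A_sq (hd : Dbl π c) {x : L} (hx : x ∈ E.comap π) : x * x = 1 := by
  have h16 : ∀ n, W16 n → ∀ x : L, π x = ge n → x * x = 1 := by
    intro n hn x hx
    have h0 := sq_ok
    rw [Bool.and_eq_true, Nat.beq_eq, List.all_eq_true] at h0
    have hw : ∀ w ∈ [8364534, 5731070, 4060028, 8385418, 7001086], W16 w := by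
      intro w hw
      have h1 := h0.2 w hw
      rw [Bool.and_eq_true, Nat.beq_eq] at h1
      exact h1
    have w1 := hw 8364534 (by simp)
    have w2 := hw 5731070 (by simp)
    have w3 := hw 4060028 (by simp)
    have w4 := hw 8385418 (by simp)
    have w0 := hw 7001086 (by simp)
    obtain ⟨u1, h1⟩ := hd.surj (ge 8364534)
    obtain ⟨u2, h2⟩ := hd.surj (ge 5731070)
    obtain ⟨u3, h3⟩ := hd.surj (ge 4060028)
    obtain ⟨u4, h4⟩ := hd.surj (ge 8385418)
    have mem : ∀ {w : ℕ} {u : L}, W16 w → π u = ge w → u ∈ E.comap π := fun hw hu => mem_A_iff.2 ⟨_, hw.1, hu⟩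
    have h12 : π (u1 * u2) = ge (8364534 ^^^ 5731070) := by rw [map_mul, h1, h2, ge_mul w1.1 w2.1]
    have h34 : π (u3 * u4) = ge (4060028 ^^^ 8385418) := by rw [map_mul, h3, h4, ge_mul w3.1 w4.1]
    have hu : π (u1 * u2 * (u3 * u4)) = ge 7001086 := by
      rw [map_mul, h12, h34, ge_mul (inE_xor w1.1 w2.1) (inE_xor w3.1 w4.1)]
      exact congrArg ge h0.1
    have hs : (x * x) * (x * x) = 1 := by
      rcases sq_or hd (x := x) (by rw [hx, ge_sq hn.1]) with h | h
      · rw [h, one_mul]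
      · rw [h, hd.sq]
    have sqm : ∀ {a b : L}, a ∈ E.comap π → b ∈ E.comap π → (a * b) * (a * b) = (a * a) * (b * b) := by
      intro a b ha hb
      calc (a * b) * (a * b) = a * (b * a) * b := by group
        _ = a * (a * b) * b := by rw [A_comm hd hb ha]
        _ = (a * a) * (b * b) := by group
    have e1 := sqm (mem w1 h1) (mem w2 h2)
    have e2 := sqm (mem w3 h3) (mem w4 h4)
    have e3 := sqm ((E.comap π).mul_mem (mem w1 h1) (mem w2 h2)) ((E.comap π).mul_mem (mem w3 h3) (mem w4 h4))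
    rw [e1, e2, sq_eq hd w1 hn h1 hx, sq_eq hd w2 hn h2 hx, sq_eq hd w3 hn h3 hx, sq_eq hd w4 hn h4 hx, hs,
      one_mul] at e3
    rw [sq_eq hd hn w0 hx hu]
    exact e3
  obtain ⟨n, hn, hxn⟩ := mem_A_iff.1 hx
  have key : ∀ n, inE n = true → (inE n = true ∧ ∀ x : L, π x = ge n → x * x = 1) := by
    intro n hn
    refine E_induction (Q := fun n => inE n = true ∧ ∀ x : L, π x = ge n → x * x = 1) ⟨inE_zero, ?_⟩ ?_ ?_ hn
    · intro x hx
      rw [ge_zero] at hx
      rcases (hd.ker x).1 hx with rfl | rfl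
      · exact one_mul 1
      · exact hd.sq
    · rintro a b ⟨ha, ha'⟩ ⟨hb, hb'⟩
      refine ⟨inE_xor ha hb, fun x hx => ?_⟩
      obtain ⟨u, hu⟩ := hd.surj (ge a)
      have h1 : π (u⁻¹ * x) = ge b := by
        rw [map_mul, map_inv, hu, hx, ← ge_mul ha hb, inv_mul_cancel_left]
      have h2 := ha' u hu
      have h3 := hb' _ h1
      have h4 : u * (u⁻¹ * x) = (u⁻¹ * x) * u :=
        A_comm hd (mem_A_iff.2 ⟨_, ha, hu⟩) (mem_A_iff.2 ⟨_, hb, h1⟩)
      calc x * x = u * ((u⁻¹ * x) * u) * (u⁻¹ * x) := by group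
        _ = (u * u) * ((u⁻¹ * x) * (u⁻¹ * x)) := by rw [← h4]; group
        _ = 1 := by rw [h2, h3, one_mul]
    · exact fun n hn => ⟨hn.1, h16 n hn⟩
  exact (key n hn).2 x hxn

/-! ### the canonical lifts -/

open Classical in
/-- the canonical lift -/
noncomputable def lf (π : L →* Spor.Co2) (τ : L) (n : ℕ) : L :=
  if h : ∃ x ∈ Cls τ, π x = ge n then h.choose else 1

theorem lf_spec (hd : Dbl π c) {τ : L} (hτ : π τ = ge mz) {n : ℕ} (hn : W16 n) :
    lf π τ n ∈ Cls τ ∧ π (lf π τ n) = ge n := by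
  have h : ∃ x ∈ Cls τ, π x = ge n := by
    obtain ⟨k, hk⟩ := isConj_iff.1 (conj_W16 hn)
    obtain ⟨k, rfl⟩ := hd.surj k
    exact ⟨k * τ * k⁻¹, ⟨k, rfl⟩, by rw [map_mul, map_mul, map_inv, hτ, hk]⟩
  unfold lf
  rw [dif_pos h]
  exact h.choose_spec

theorem lf_mem (hd : Dbl π c) {τ : L} (hτ : π τ = ge mz) {n : ℕ} (hn : W16 n) : lf π τ n ∈ E.comap π :=
  mem_A_iff.2 ⟨n, hn.1, (lf_spec hd hτ hn).2⟩

theorem lf_eq (hd : Dbl π c) {τ : L} (hτ : π τ = ge mz) {n : ℕ} (hn : W16 n) {x : L} (hx : x ∈ Cls τ)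
    (h : π x = ge n) : x = lf π τ n :=
  uniq hd cent_perf hτ hx (lf_spec hd hτ hn).1 (h.trans (lf_spec hd hτ hn).2.symm)

theorem lf_conj (hd : Dbl π c) {τ : L} (hτ : π τ = ge mz) {n n' : ℕ} (hn : W16 n) (hn' : W16 n') {g : L}
    (h : π g * ge n * (π g)⁻¹ = ge n') : g * lf π τ n * g⁻¹ = lf π τ n' := by
  apply lf_eq hd hτ hn' (conj_mem g (lf_spec hd hτ hn).1)
  rw [map_mul, map_mul, map_inv, (lf_spec hd hτ hn).2, h]

/-- the relation -/
def Rel (π : L →* Spor.Co2) (τ : L) (R : Subgroup L) (a b : ℕ) : Prop := lf π τ a * lf π τ b ∈ R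

theorem Rel.symm (hd : Dbl π c) {τ : L} (hτ : π τ = ge mz) {R : Subgroup L} {a b : ℕ} (ha : W16 a) (hb : W16 b)
    (h : Rel π τ R a b) : Rel π τ R b a := by
  unfold Rel at h ⊢
  rwa [A_comm hd (lf_mem hd hτ hb) (lf_mem hd hτ ha)]

theorem Rel.trans (hd : Dbl π c) {τ : L} (hτ : π τ = ge mz) {R : Subgroup L} {a b e : ℕ} (hb : W16 b)
    (h : Rel π τ R a b) (h' : Rel π τ R b e) : Rel π τ R a e := by
  unfold Rel at h h' ⊢
  have h1 := R.mul_mem h h'
  have h2 : lf π τ a * lf π τ b * (lf π τ b * lf π τ e) = lf π τ a * (lf π τ b * lf π τ b) * lf π τ e := by group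
  rw [h2, A_sq hd (lf_mem hd hτ hb), mul_one] at h1
  exact h1

theorem Rel.refl (hd : Dbl π c) {τ : L} (hτ : π τ = ge mz) {R : Subgroup L} {a : ℕ} (ha : W16 a) :
    Rel π τ R a a := by
  unfold Rel
  rw [A_sq hd (lf_mem hd hτ ha)]
  exact R.one_mem

theorem rel_it (hd : Dbl π c) {τ : L} (hτ : π τ = ge mz) {R : Subgroup L} {g : L} (hg : π g = mo2 0 Pt)
    (hR : ∀ a ∈ E.comap π, g * a * g⁻¹ * a ∈ R) {a : ℕ} (ha : W16 a) (i : ℕ) : Rel π τ R a (it Pt i a) := by
  induction i with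
  | zero => exact Rel.refl hd hτ ha
  | succ i ih =>
    have hi := W16_it Pt_okP Pt_lt ha i
    have hi' := W16_it Pt_okP Pt_lt ha (i + 1)
    refine Rel.trans hd hτ hi ih (Rel.symm hd hτ hi' hi ?_)
    have h1 := hR _ (lf_mem hd hτ hi)
    rwa [lf_conj hd hτ hi hi' (by rw [hg]; exact conj_ge Pt_okP Pt_lt hi.1 rfl)] at h1

theorem rel_edge (hd : Dbl π c) {τ : L} (hτ : π τ = ge mz) {R : Subgroup L} {g : L} (hg : π g = mo2 0 Pt)
    (hR : ∀ a ∈ E.comap π, g * a * g⁻¹ * a ∈ R) {a i b j y m k l : ℕ} (ha : W16 a)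
    (h : chkEdge (a, i, b, j, y, m, k, l) = true) : Rel π τ R (it Pt i a) (it Pt j b) := by
  unfold chkEdge at h
  simp only [Bool.and_eq_true, Nat.beq_eq, Nat.blt_eq] at h
  obtain ⟨⟨⟨⟨⟨⟨hm, hlt⟩, hy⟩, hy16⟩, hk⟩, h1, h2⟩, ⟨h3, h4⟩, h5⟩ := h
  have hx := W16_it Pt_okP Pt_lt ha i
  set x := it Pt i a with hxdef
  have hyW : W16 y := ⟨hy, hy16⟩
  obtain ⟨r, hr⟩ := hd.surj (mo2 0 m)
  have hpx := W16_pimg hm hlt hx
  have hpy := W16_pimg hm hlt hyW
  have cx : ∀ n, W16 n → r * lf π τ n * r⁻¹ = lf π τ (pimg m n) := fun n hn =>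
    lf_conj hd hτ hn (W16_pimg hm hlt hn) (by rw [hr]; exact conj_ge hm hlt hn.1 rfl)
  set u : L := lf π τ x * lf π τ y with hu
  have hπu : π u = ge (x ^^^ y) := by
    rw [hu, map_mul, (lf_spec hd hτ hx).2, (lf_spec hd hτ hyW).2, ge_mul hx.1 hy]
  have hru : π (r * u * r⁻¹) = π u := by
    rw [map_mul, map_mul, map_inv, hr, hπu]
    exact conj_ge hm hlt (inE_xor hx.1 hy) h3
  have hconj : ∀ s t : ℕ, W16 s → W16 t → r * (lf π τ s * lf π τ t) * r⁻¹ =
      lf π τ (pimg m s) * lf π τ (pimg m t) := by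
    intro s t hs ht
    rw [← cx s hs, ← cx t ht]
    group
  have hmain : r * u * r⁻¹ = u := by
    rcases eq_or hd hru with h6 | h6
    · exact h6
    · exfalso
      have h7 : ∀ q : ℕ, lf π τ (it m q x) * lf π τ (it m q y) = c ^ q * u := by
        intro q
        induction q with
        | zero => rw [pow_zero, one_mul]; rfl
        | succ q ih =>
          have h8 := hconj _ _ (W16_it hm hlt hx q) (W16_it hm hlt hyW q)
          rw [ih] at h8
          have hcq : Commute (c ^ q) r := (show Commute c r from hd.cen r).pow_left q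
          calc lf π τ (it m (q + 1) x) * lf π τ (it m (q + 1) y) = r * (c ^ q * u) * r⁻¹ := h8.symm
            _ = (r * c ^ q) * u * r⁻¹ := by group
            _ = (c ^ q * r) * u * r⁻¹ := by rw [hcq.eq]
            _ = c ^ q * (r * u * r⁻¹) := by group
            _ = c ^ q * (c * u) := by rw [h6]
            _ = c ^ (q + 1) * u := by rw [pow_succ]; group
      have h9 := h7 k
      rw [h4, h5] at h9
      have hk' : Odd k := Nat.odd_iff.2 hk
      obtain ⟨q, rfl⟩ := hk'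
      rw [pow_succ, pow_mul, pow_two, hd.sq, one_pow, one_mul] at h9
      exact hd.ne (mul_eq_right.1 h9.symm)
  have h10 : lf π τ (pimg m x) * lf π τ (pimg m y) = u := by rw [← hconj x y hx hyW]; exact hmain
  rw [h1, h2] at h10
  rw [h1] at hpx
  rw [h2] at hpy
  have h11 := rel_it hd hτ hg hR hyW l
  unfold Rel at h11 ⊢
  have h12 : lf π τ (it Pt j b) = u * (lf π τ (it Pt l y)) := by
    rw [← h10, mul_assoc, A_sq hd (lf_mem hd hτ hpy), mul_one]
  rw [h12, hu]
  have h13 : lf π τ x * (lf π τ x * lf π τ y * lf π τ (it Pt l y)) =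
      (lf π τ x * lf π τ x) * (lf π τ y * lf π τ (it Pt l y)) := by group
  rw [h13, A_sq hd (lf_mem hd hτ hx), one_mul]
  exact h11

theorem rel_all (hd : Dbl π c) {τ : L} (hτ : π τ = ge mz) {R : Subgroup L} {g : L} (hg : π g = mo2 0 Pt)
    (hR : ∀ a ∈ E.comap π, g * a * g⁻¹ * a ∈ R) {n : ℕ} (hn : W16 n) : Rel π τ R mz n := by
  -- the representatives
  have step : ∀ {a i b j y m k l : ℕ}, (a, i, b, j, y, m, k, l) ∈ edges → W16 a → W16 b →
      Rel π τ R a b := by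
    intro a i b j y m k l he ha hb
    have h1 := rel_edge hd hτ hg hR ha (List.all_eq_true.1 edges_ok _ he)
    have ha' := W16_it Pt_okP Pt_lt ha i
    have hb' := W16_it Pt_okP Pt_lt hb j
    exact Rel.trans hd hτ ha' (rel_it hd hτ hg hR ha i)
      (Rel.trans hd hτ hb' h1 (Rel.symm hd hτ hb hb' (rel_it hd hτ hg hR hb j)))
  have w : ∀ r ∈ Cert.reps, W16 r := fun r hr => reps_W16 hr
  have r0 := w 3406834 (by simp [Cert.reps])
  have r1 := w 8364534 (by simp [Cert.reps])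
  have r2 := w 5731070 (by simp [Cert.reps])
  have r3 := w 7001086 (by simp [Cert.reps])
  have r4 := w 7337022 (by simp [Cert.reps])
  have r5 := w 6280668 (by simp [Cert.reps])
  have r6 := w 8345458 (by simp [Cert.reps])
  have e1 : Rel π τ R 5731070 3406834 := step (i := 9) (j := 3) (y := 4126422)
    (m := 960176182231498553991904372184392288) (k := 7) (l := 2) (by simp [edges]) r2 r0
  have e2 : Rel π τ R 5731070 8345458 := step (i := 0) (j := 8) (y := 3406834)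
    (m := 960176182231498553991904372184392288) (k := 7) (l := 2) (by simp [edges]) r2 r6
  have e3 : Rel π τ R 3406834 8364534 := step (i := 3) (j := 2) (y := 3140334)
    (m := 979527180508828962460296519218401952) (k := 7) (l := 7) (by simp [edges]) r0 r1
  have e4 : Rel π τ R 3406834 7001086 := step (i := 4) (j := 2) (y := 6946666)
    (m := 979527180508828962460296519218401952) (k := 7) (l := 4) (by simp [edges]) r0 r3
  have e5 : Rel π τ R 8345458 7337022 := step (i := 3) (j := 4) (y := 4135902)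
    (m := 973697131114080162928763891743248416) (k := 3) (l := 8) (by simp [edges]) r6 r4
  have e6 : Rel π τ R 7337022 6280668 := step (i := 2) (j := 0) (y := 8183582)
    (m := 973697131114080162928763891743248416) (k := 3) (l := 5) (by simp [edges]) r4 r5
  have f2 : Rel π τ R 3406834 5731070 := Rel.symm hd hτ r2 r0 e1
  have f6 := Rel.trans hd hτ r2 f2 e2
  have f4 := Rel.trans hd hτ r6 f6 e5
  have f5 := Rel.trans hd hτ r4 f4 e6
  obtain ⟨r, hr, i, rfl⟩ := exists_rep hn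
  have hmz : mz = 3406834 := rfl
  have hr2 : Rel π τ R mz r := by
    rw [hmz]
    simp only [Cert.reps, List.mem_cons, List.not_mem_nil, or_false] at hr
    rcases hr with rfl | rfl | rfl | rfl | rfl | rfl | rfl
    · exact Rel.refl hd hτ r0
    · exact e3
    · exact f2
    · exact e4
    · exact f4
    · exact f5
    · exact f6
  exact Rel.trans hd hτ (w r hr) hr2 (rel_it hd hτ hg hR (w r hr) i)

/-- **The complement.** -/
theorem exists_compl [Finite L] (hd : Dbl π c) : ∃ E₁ : Subgroup L, E₁ ≤ E.comap π ∧ c ∉ E₁ ∧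
    (∀ g : L, (∀ e ∈ E, π g * e * (π g)⁻¹ ∈ E) → ∀ x ∈ E₁, g * x * g⁻¹ ∈ E₁) ∧
    ∀ n, inE n = true → ∃ x ∈ E₁, π x = ge n := by
  obtain ⟨g, hg⟩ := hd.surj (mo2 0 Pt)
  have hcA : c ∈ E.comap π := mem_A_iff.2 ⟨0, inE_zero, by rw [pi_c hd, ge_zero]⟩
  obtain ⟨R, hRA, hcR, hR2, hR⟩ := Half.exists_half (g := g) (k := 11) hd.ne hd.cen hcA
    (fun a ha => A_sq hd ha)
    (by
      intro a ha
      obtain ⟨n, hn, han⟩ := mem_A_iff.1 ha
      refine mem_A_iff.2 ⟨pimg Pt n, inE_pimg Pt_okP hn, ?_⟩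
      rw [map_mul, map_mul, map_inv, hg, han]
      exact conj_ge Pt_okP Pt_lt hn rfl)
    (by decide)
    (by
      intro a _
      have h1 : π (g ^ 11) = 1 := by
        rw [map_pow, hg, mo2_pow Pt_okP, Pt_pw]; exact mo2_one
      rw [central hd h1, mul_inv_cancel_right])
    (by
      intro a ha h
      obtain ⟨n, hn, han⟩ := mem_A_iff.1 ha
      have h1 := congrArg π h
      rw [map_mul, map_mul, map_inv, hg, han, conj_ge Pt_okP Pt_lt hn rfl] at h1
      have h2 := fpf hn (ge_inj (inE_pimg Pt_okP hn) hn h1)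
      rw [h2, ge_zero] at han
      exact (hd.ker a).1 han)
  obtain ⟨τ₀, hτ₀⟩ := hd.surj (ge mz)
  -- the right choice of the lift
  obtain ⟨τ, hτ, hτR⟩ : ∃ τ, π τ = ge mz ∧ lf π τ mz ∈ R := by
    have e0 : τ₀ = lf π τ₀ mz := lf_eq hd hτ₀ W16_mz (self_mem _) hτ₀
    rcases hR2 τ₀ (mem_A_iff.2 ⟨mz, iz, hτ₀⟩) with h | h
    · exact ⟨τ₀, hτ₀, by rwa [← e0]⟩
    · have h1 : π (c * τ₀) = ge mz := by rw [map_mul, pi_c hd, one_mul, hτ₀]
      refine ⟨c * τ₀, h1, ?_⟩
      rw [← lf_eq hd h1 W16_mz (self_mem _) h1]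
      exact h
  have hall : ∀ n, W16 n → lf π τ n ∈ R := by
    intro n hn
    have h1 : lf π τ mz * lf π τ n ∈ R := rel_all hd hτ hg hR hn
    exact (R.mul_mem_cancel_left hτR).1 h1
  have hcls : ∀ x ∈ Cls τ, x ∈ E.comap π → x ∈ R ∧ ∃ n, W16 n ∧ π x = ge n := by
    intro x hx hxA
    obtain ⟨n, hn, hxn⟩ := mem_A_iff.1 hxA
    obtain ⟨k, rfl⟩ := id hx
    have hW : W16 n := by
      apply W16_of_conj hn
      refine isConj_iff.2 ⟨π k, ?_⟩
      rw [← hxn, map_mul, map_mul, map_inv, hτ]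
    rw [lf_eq hd hτ hW hx hxn]
    exact ⟨hall n hW, n, hW, (lf_spec hd hτ hW).2⟩
  refine ⟨Subgroup.closure (Cls τ ∩ (E.comap π : Set L)), ?_, ?_, ?_, ?_⟩
  · rw [Subgroup.closure_le]
    exact fun x hx => hx.2
  · intro h
    apply hcR
    have h1 : Subgroup.closure (Cls τ ∩ (E.comap π : Set L)) ≤ R := by
      rw [Subgroup.closure_le]
      exact fun x hx => (hcls x hx.1 hx.2).1
    exact h1 h
  · intro g hg x hx
    have h1 : Subgroup.closure (Cls τ ∩ (E.comap π : Set L)) ≤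
        (Subgroup.closure (Cls τ ∩ (E.comap π : Set L))).comap (MulAut.conj g).toMonoidHom := by
      rw [Subgroup.closure_le]
      intro x hx
      apply Subgroup.subset_closure
      refine ⟨conj_mem g hx.1, ?_⟩
      show g * x * g⁻¹ ∈ E.comap π
      rw [Subgroup.mem_comap, map_mul, map_mul, map_inv]
      exact hg _ hx.2
    exact h1 hx
  · intro n hn
    refine (E_induction (Q := fun n => inE n = true ∧ ∃ x ∈ Subgroup.closure (Cls τ ∩ (E.comap π : Set L)),
      π x = ge n) ⟨inE_zero, 1, Subgroup.one_mem _, by rw [map_one, ge_zero]⟩ ?_ ?_ hn).2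
    · rintro a b ⟨ha, x, hx, hxa⟩ ⟨hb, y, hy, hyb⟩
      exact ⟨inE_xor ha hb, x * y, Subgroup.mul_mem _ hx hy, by rw [map_mul, hxa, hyb, ge_mul ha hb]⟩
    · intro n hn
      exact ⟨hn.1, lf π τ n, Subgroup.subset_closure ⟨(lf_spec hd hτ hn).1, lf_mem hd hτ hn⟩,
        (lf_spec hd hτ hn).2⟩

end Cfsg.Agent.KFacts.MulCoTwo.Lift
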