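import Cfsg.Agent.KFacts.MulCoTwo.Lift
import Cfsg.Agent.KFacts.CoInv.TwoMono
import Cfsg.Agent.KFacts.MulSpor.OneLift
import Cfsg.Agent.KFacts.MulSpor.McLLy
import Cfsg.Agent.SporadicA.MathieuRecog

/-!
# The Schur multiplier of Conway's group Co2 has odd order (helper927, with a simplification by helper272)

`noDouble : NoDouble Spor.Co2`. `N = E : M22 : 2` is the monomial subgroup (of odd index). In a double cover the lift of
`E` has an `N`-invariant complement (`Lift.exists_compl`), `M22 ≤ McL` lifts since `McL` has no double cover, and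
`N / (E : M22)` has order 2.
-/

set_option autoImplicit false
set_option linter.dupNamespace false

namespace Cfsg.Agent.KFacts.MulCoTwo.Main

open Cfsg Cfsg.Agent.SporadicA.GolayBase Cfsg.Agent.SporadicA.GolayPerm
open Cfsg.Agent.SporadicStructure.M24El Cfsg.Agent.SporadicA.Co0Mono
open Cfsg.Agent.SporadicStructure.Co0Base (e8 e8_coe)
open Cfsg.Agent.SporadicA.Co1Simple (exists_sign_perm N perm_smul_e8 sign_mem_N perm_mem_N)
open Cfsg.Agent.Co2Type.Mono Cfsg.Agent.Co2Type.TGroup Cfsg.Agent.Co2Type.TData Cfsg.Agent.Co2Type.FactsD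
open Cfsg.Agent.KFacts.CoInv.TwoMono (mono_of_N)
open Cfsg.Agent.KFacts.MulDef Cfsg.Agent.KFacts.MulSpor.Class Cfsg.Agent.KFacts.MulSpor.OneLift
open Cfsg.Agent.KFacts.MulCoTwo.Cert Cfsg.Agent.KFacts.MulCoTwo.Lift
open scoped Pointwise commutatorElement

/-! ### generalities -/

theorem perfect_of_simple {P : Type*} [Group P] (hP : IsSimpleGroup P) (hcard : ¬ (Nat.card P).Prime) :
    commutator P = ⊤ := by
  rcases hP.eq_bot_or_eq_top_of_normal (commutator P) inferInstance with h1 | h1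
  · exfalso
    apply hcard
    have hab : ∀ a b : P, a * b = b * a := by
      intro a b
      have : a * b * a⁻¹ * b⁻¹ ∈ commutator P := Subgroup.commutator_mem_commutator trivial trivial
      rw [h1, Subgroup.mem_bot] at this
      have h2 : a * b * (b * a)⁻¹ = 1 := by rw [← this]; group
      exact mul_inv_eq_one.1 h2
    let _ : CommGroup P := { (inferInstance : Group P) with mul_comm := hab }
    have _ : IsSimpleGroup P := hP
    exact IsSimpleGroup.prime_card (α := P)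
  · exact h1

universe u v

theorem commutator_range {P : Type u} {X : Type v} [Group P] [Group X] (f : P →* X) (hP : commutator P = ⊤) :
    ⁅f.range, f.range⁆ = f.range := by
  rw [MonoidHom.range_eq_map, ← Subgroup.map_commutator, ← commutator_def, hP]

/-- `c` is not in the lift of a perfect subgroup without double covers. -/
theorem not_mem_DD {L : Type u} {X : Type v} [Group L] [Group X] [Finite L] {π : L →* X} {c : L} (hd : Dbl π c)
    {M : Subgroup X} (hM : ⁅M, M⁆ = M) (h : NoDouble M) : c ∉ DD π M := by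
  intro hc
  let p : DD π M →* M :=
    { toFun := fun d => ⟨π d, DD_le M d.2⟩
      map_one' := Subtype.ext (by simp)
      map_mul' := fun a b => Subtype.ext (by simp) }
  have hp : ∀ d, (p d : X) = π d := fun _ => rfl
  refine h.false (π := p) (c := ⟨c, hc⟩) ?_
  exact
    { ne := fun h1 => hd.ne (congrArg Subtype.val h1)
      sq := Subtype.ext hd.sq
      cen := fun x => Subtype.ext (hd.cen x)
      perf := commutator_DD hd hM
      surj := fun n => by
        obtain ⟨d, h1, h2⟩ := exists_mem_DD hd hM n.2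
        exact ⟨⟨d, h1⟩, Subtype.ext h2⟩
      ker := fun x => by
        constructor
        · intro h1
          have h2 : π x = 1 := by rw [← hp, h1]; rfl
          rcases (hd.ker _).1 h2 with h3 | h3
          · exact Or.inl (Subtype.ext h3)
          · exact Or.inr (Subtype.ext h3)
        · rintro (rfl | rfl)
          · exact map_one p
          · exact Subtype.ext (pi_c hd) }

/-! ### `M22 ≤ McL ≤ Co2` -/

theorem M22_le : Spor.M22 ≤ M24 := inf_le_left.trans inf_le_left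

/-- the inclusion -/
def jm : Spor.M22 →* M24 := Subgroup.inclusion M22_le

theorem fix_none (σ : Spor.M22) : (σ : Equiv.Perm GolayPt) none = none :=
  ((Cfsg.Agent.SporadicA.MathieuRecog.mem_M22_iff _).1 σ.2).2.1

theorem fix_zero (σ : Spor.M22) : (σ : Equiv.Perm GolayPt) (some 0) = some 0 :=
  ((Cfsg.Agent.SporadicA.MathieuRecog.mem_M22_iff _).1 σ.2).2.2

theorem symm_none (σ : Spor.M22) (i : GolayPt) : (σ : Equiv.Perm GolayPt).symm i = none ↔ i = none := by
  rw [Equiv.symm_apply_eq, fix_none]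

theorem symm_zero (σ : Spor.M22) (i : GolayPt) : (σ : Equiv.Perm GolayPt).symm i = some 0 ↔ i = some 0 := by
  rw [Equiv.symm_apply_eq, fix_zero]

theorem perm_U (σ : Spor.M22) : permCo0 (jm σ) • Spor.leechU = Spor.leechU := by
  apply Subtype.ext
  rw [permCo0_smul]
  funext i
  rw [permMap_apply]
  show Spor.vecU ((σ : Equiv.Perm GolayPt).symm i) = Spor.vecU i
  unfold Spor.vecU
  simp only [symm_none, symm_zero]

theorem perm_V (σ : Spor.M22) : permCo0 (jm σ) • Spor.leechV = Spor.leechV := by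
  apply Subtype.ext
  rw [permCo0_smul]
  funext i
  rw [permMap_apply]
  show Spor.vecV ((σ : Equiv.Perm GolayPt).symm i) = Spor.vecV i
  unfold Spor.vecV
  simp only [symm_none]

/-- `M22 → Co2` -/
def im : Spor.M22 →* Spor.Co2 :=
  MonoidHom.codRestrict ((Co0.subtype).comp (permCo0.comp jm)) Spor.Co2
    (fun σ => ⟨(permCo0 (jm σ)).2, perm_U σ⟩)

theorem toCo0_im (σ : Spor.M22) : toCo0 (im σ) = permCo0 (jm σ) := rfl

theorem McL_le : Spor.McL ≤ Spor.Co2 := le_inf (inf_le_left.trans inf_le_left) inf_le_right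

/-- `McL` as a subgroup of `Co2` -/
def MM : Subgroup Spor.Co2 := Spor.McL.subgroupOf Spor.Co2

theorem im_mem_MM (σ : Spor.M22) : im σ ∈ MM := by
  rw [MM, Subgroup.mem_subgroupOf]
  exact ⟨⟨(permCo0 (jm σ)).2, perm_V σ⟩, perm_U σ⟩

theorem perf_M22 : commutator Spor.M22 = ⊤ :=
  perfect_of_simple Cfsg.Agent.SporadicA.MathieuRecog.simple_M22 (by
    rw [Cfsg.Agent.SporadicA.MathieuRecog.card_M22]; norm_num)

theorem perf_McL : commutator Spor.McL = ⊤ := by
  obtain ⟨-, h1, h2, -⟩ := Cfsg.Agent.TypeM.FactsMcL.exists_mt_mcl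
  exact perfect_of_simple h1 (by rw [h2]; norm_num)

theorem perf_im : ⁅im.range, im.range⁆ = im.range := commutator_range im perf_M22

theorem perf_MM : ⁅MM, MM⁆ = MM := by
  have e : MM ≃* Spor.McL := Subgroup.subgroupOfEquivOfLe McL_le
  have h1 : MM = (MM.subtype.comp e.symm.toMonoidHom).range := by
    rw [MonoidHom.range_comp, MonoidHom.range_eq_top.2 e.symm.surjective, ← MonoidHom.range_eq_map,
      Subgroup.range_subtype]
  have h2 := commutator_range (MM.subtype.comp e.symm.toMonoidHom) perf_McL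
  rwa [← h1] at h2

theorem noDouble_MM : NoDouble MM :=
  Cfsg.Agent.KFacts.MulSpor.McLLy.mcl ⟨Subgroup.subgroupOfEquivOfLe McL_le⟩

/-! ### the monomial subgroup -/

/-- the monomial subgroup -/
def Nn : Subgroup Spor.Co2 := N.comap toCo0

theorem mo_mem (m P : ℕ) : mo m P ∈ N := by
  unfold mo
  exact N.mul_mem (sign_mem_N _) (perm_mem_N _)

theorem mo2_mem {m P : ℕ} (hm : inE m = true) (hP : okP P = true) : mo2 m P ∈ Nn := by
  rw [Nn, Subgroup.mem_comap, toCo0_mo2 hm hP]
  exact mo_mem m P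

theorem T_le : T ≤ Nn := by
  intro g hg
  obtain ⟨m, P, hm, hP, hg'⟩ := mem_T_iff.1 hg
  rw [hg']
  exact mo2_mem hm (okP_of_mem hP)

theorem odd_index : ¬ 2 ∣ Nn.index := fun h =>
  Cfsg.Agent.Co2Type.FactsClass.odd_index (h.trans (Subgroup.index_dvd_of_le T_le))

theorem conj_E {g : Spor.Co2} (hg : g ∈ Nn) : ∀ e ∈ E, g * e * g⁻¹ ∈ E := by
  intro e he
  obtain ⟨n, hn, rfl⟩ := mem_E_iff.1 he
  obtain ⟨m, Q, hm, hQ, hlt, rfl⟩ := mono_of_N hg
  rw [mo2_conj_E hm hn hQ hlt, mul_inv_cancel_right]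
  exact ge_mem (inE_pimg hQ hn)

theorem im_mem_Nn (σ : Spor.M22) : im σ ∈ Nn := perm_mem_N _

/-- the elements of `N` fixing the two points -/
def Fx (g : Spor.Co2) : Prop := toCo0 g • e8 none = e8 none

theorem im_none (σ : Spor.M22) : toCo0 (im σ) • e8 none = e8 none := by
  rw [toCo0_im, perm_smul_e8]
  show e8 ((σ : Equiv.Perm GolayPt) none) = e8 none
  rw [fix_none]

theorem im_zero (σ : Spor.M22) : toCo0 (im σ) • e8 (some 0) = e8 (some 0) := by
  rw [toCo0_im, perm_smul_e8]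
  show e8 ((σ : Equiv.Perm GolayPt) (some 0)) = e8 (some 0)
  rw [fix_zero]

theorem smul_none {m Q : ℕ} (hm : inE m = true) (hQ : okP Q = true) :
    (papp Q 23 = 23 ∧ papp Q 0 = 0 ∧ toCo0 (mo2 m Q) • e8 none = e8 none) ∨
      (papp Q 23 = 0 ∧ toCo0 (mo2 m Q) • e8 none = e8 (some 0)) := by
  have hm' := inE_iff.1 hm
  have hok := ok_of_okP hQ
  have i23 : idx none = 23 := by decide +kernel
  have i0 : idx (some 0 : GolayPt) = 0 := by decide +kernel
  have hidx : idx ((el Q : Equiv.Perm GolayPt) none) = papp Q 23 := by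
    rw [coe_el hok, idx_permOf, i23]
  have hval : ∀ q : GolayPt, (el Q : Equiv.Perm GolayPt) none = q → m.testBit (idx q) = false →
      toCo0 (mo2 m Q) • e8 none = e8 q := by
    intro q hq hb
    rw [toCo0_mo2 hm hQ]
    apply Subtype.ext
    funext j
    rw [mo_smul_e8 (isCode_of_inE hm), e8_coe, hq]
    by_cases h : q = j
    · subst h
      rw [if_pos rfl, hb, Pi.single_eq_same]
      rfl
    · rw [if_neg h, Pi.single_eq_of_ne (fun h' => h h'.symm)]
  rcases (okP_iff.1 hQ).2 with h | h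
  · left
    refine ⟨h.2, h.1, hval none ?_ (by rw [i23]; exact hm'.2.2)⟩
    apply idx_injective
    rw [hidx, h.2, i23]
  · right
    refine ⟨h.2, hval (some 0) ?_ (by rw [i0]; exact hm'.2.1)⟩
    apply idx_injective
    rw [hidx, h.2, i0]

theorem e8_ne : e8 none ≠ e8 (some 0) := by
  intro h
  have h1 := congrArg (fun x : leechLattice => (x : GolayPt → ℤ) none) h
  simp only [e8_coe] at h1
  rw [Pi.single_eq_same, Pi.single_eq_of_ne (by simp)] at h1
  norm_num at h1

theorem Nn_cases {g : Spor.Co2} (hg : g ∈ Nn) : toCo0 g • e8 none = e8 none ∨ toCo0 g • e8 none = e8 (some 0) := by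
  obtain ⟨m, Q, hm, hQ, hlt, rfl⟩ := mono_of_N hg
  rcases smul_none hm hQ with h | h
  · exact Or.inl h.2.2
  · exact Or.inr h.2

theorem decomp {g : Spor.Co2} (hg : g ∈ Nn) (h : Fx g) : ∃ m, inE m = true ∧ ∃ σ : Spor.M22, g = ge m * im σ := by
  obtain ⟨m, Q, hm, hQ, hlt, rfl⟩ := mono_of_N hg
  rcases smul_none hm hQ with h1 | h1
  · have hok := ok_of_okP hQ
    have i23 : idx none = 23 := by decide +kernel
    have i0 : idx (some 0 : GolayPt) = 0 := by decide +kernel
    have hmem : (el Q : Equiv.Perm GolayPt) ∈ Spor.M22 := by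
      rw [Cfsg.Agent.SporadicA.MathieuRecog.mem_M22_iff]
      refine ⟨(el Q).2, ?_, ?_⟩
      · apply idx_injective
        rw [coe_el hok, idx_permOf, i23, h1.1]
      · apply idx_injective
        rw [coe_el hok, idx_permOf, i0, h1.2.1]
    refine ⟨m, hm, ⟨_, hmem⟩, ?_⟩
    have h2 : im ⟨_, hmem⟩ = mo2 0 Q := by
      apply toCo0_injective
      rw [toCo0_im, toCo0_mo2 inE_zero hQ]
      show permCo0 (el Q) = signCo0 (cd 0) * permCo0 (el Q)
      rw [cd_zero, signCo0_zero, one_mul]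
    rw [h2]
    unfold ge
    rw [mo2_mul_left hm inE_zero hQ, Nat.xor_zero]
  · exact absurd (h.symm.trans h1.2) e8_ne

theorem inv_cases {g : Spor.Co2} (hg : g ∈ Nn) (a : Spor.Co2) (h1 : toCo0 a • e8 none = e8 none)
    (h2 : toCo0 a • e8 (some 0) = e8 (some 0)) : Fx (g * a * g⁻¹) := by
  unfold Fx
  rw [map_mul, map_mul, map_inv, mul_smul, mul_smul]
  have h3 := Nn_cases (Nn.inv_mem hg)
  rw [map_inv] at h3
  rcases h3 with h | h
  · rw [h, h1]
    exact (inv_smul_eq_iff.1 h).symm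
  · rw [h, h2]
    exact (inv_smul_eq_iff.1 h).symm

/-! ### the main argument -/

section main

variable {L : Type*} [Group L] {π : L →* Spor.Co2} {c : L}

/-- `E₁ M̃` -/
def P1 (π : L →* Spor.Co2) (E₁ : Subgroup L)
    (h : ∀ g : L, (∀ e ∈ E, π g * e * (π g)⁻¹ ∈ E) → ∀ x ∈ E₁, g * x * g⁻¹ ∈ E₁) : Subgroup L where
  carrier := {x | ∃ e ∈ E₁, ∃ m ∈ DD π im.range, x = e * m}
  one_mem' := ⟨1, E₁.one_mem, 1, Subgroup.one_mem _, (one_mul 1).symm⟩
  mul_mem' := by
    rintro _ _ ⟨e, he, m, hm, rfl⟩ ⟨e', he', m', hm', rfl⟩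
    obtain ⟨σ, hσ⟩ : π m ∈ im.range := DD_le _ hm
    refine ⟨e * (m * e' * m⁻¹), E₁.mul_mem he (h m (by rw [← hσ]; exact conj_E (im_mem_Nn σ)) _ he'), m * m',
      Subgroup.mul_mem _ hm hm', by group⟩
  inv_mem' := by
    rintro _ ⟨e, he, m, hm, rfl⟩
    obtain ⟨σ, hσ⟩ : π m⁻¹ ∈ im.range := DD_le _ (Subgroup.inv_mem _ hm)
    refine ⟨m⁻¹ * e⁻¹ * m⁻¹⁻¹, h _ (by rw [← hσ]; exact conj_E (im_mem_Nn σ)) _ (E₁.inv_mem he), m⁻¹,
      Subgroup.inv_mem _ hm, by group⟩

theorem false_of_dbl [Finite L] (hd : Dbl π c) : False := by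
  obtain ⟨E₁, hE1, hcE, hinv, hsurj⟩ := Lift.exists_compl hd
  set P := P1 π E₁ hinv with hP
  have memP : ∀ x, x ∈ P ↔ ∃ e ∈ E₁, ∃ m ∈ DD π im.range, x = e * m := fun x => Iff.rfl
  have hcM : c ∉ DD π im.range := by
    intro h
    apply not_mem_DD hd perf_MM noDouble_MM
    refine (Subgroup.commutator_mono ?_ ?_ : DD π im.range ≤ DD π MM) h <;>
    · apply Subgroup.comap_mono
      rintro _ ⟨σ, rfl⟩
      exact im_mem_MM σ
  have hcP : c ∉ P := by
    rintro ⟨e, he, m, hm, hcem⟩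
    obtain ⟨σ, hσ⟩ : π m ∈ im.range := DD_le _ hm
    obtain ⟨n, hn, hen⟩ := mem_A_iff.1 (hE1 he)
    have h1 : ge n * im σ = 1 := by rw [hσ, ← hen, ← map_mul, ← hcem, pi_c hd]
    have h2 : im σ = ge n := by
      rw [← inv_eq_of_mul_eq_one_right h1, inv_eq_of_mul_eq_one_left (ge_sq hn)]
    have h3 := congrArg toCo0 h2
    rw [toCo0_im] at h3
    unfold ge at h3
    rw [toCo0_mo2 hn okP_idP] at h3
    have h4 : signCo0 (cd 0) * permCo0 (jm σ) = signCo0 (cd n) * permCo0 (el idP) := by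
      rw [cd_zero, signCo0_zero, one_mul]; exact h3
    have h5 := (Cfsg.Agent.CoOneType.InvMain.sp_inj h4).1
    have h6 : 0 = n := cd_inj (isCode_of_inE inE_zero) (isCode_of_inE hn) h5
    rw [← h6, ge_zero] at h2
    have h7 : π m = 1 := by rw [← hσ, h2]
    rcases (hd.ker m).1 h7 with h8 | h8
    · rw [h8, mul_one] at hcem
      exact hcE (hcem ▸ he)
    · exact hcM (h8 ▸ hm)
  -- decomposition
  have hdec : ∀ x : L, π x ∈ Nn → Fx (π x) → ∃ p ∈ P, x = p ∨ x = c * p := by
    intro x hx hf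
    obtain ⟨m, hm, σ, hxe⟩ := decomp hx hf
    obtain ⟨e, he, hem⟩ := hsurj m hm
    obtain ⟨t, ht, htσ⟩ := exists_mem_DD hd perf_im (n := im σ) ⟨σ, rfl⟩
    refine ⟨e * t, ⟨e, he, t, ht, rfl⟩, eq_or hd ?_⟩
    rw [map_mul, hem, htσ, hxe]
  -- normality
  have hnorm : ∀ g : L, π g ∈ Nn → ∀ x ∈ P, g * x * g⁻¹ ∈ P := by
    rintro g hg _ ⟨e, he, m, hm, rfl⟩
    have h1 : g * e * g⁻¹ ∈ P := ⟨_, hinv g (conj_E hg) e he, 1, Subgroup.one_mem _, (mul_one _).symm⟩
    have h2 : DD π im.range ≤ P.comap (MulAut.conj g).toMonoidHom := by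
      have key : ∀ a ∈ DD π im.range, ∃ p ∈ P, π (g * a * g⁻¹) = π p := by
        intro a ha
        obtain ⟨σ, hσ⟩ : π a ∈ im.range := DD_le _ ha
        have h3 : π (g * a * g⁻¹) = π g * im σ * (π g)⁻¹ := by rw [map_mul, map_mul, map_inv, hσ]
        obtain ⟨p, hp, h4⟩ := hdec (g * a * g⁻¹)
          (by rw [h3]; exact Nn.mul_mem (Nn.mul_mem hg (im_mem_Nn σ)) (Nn.inv_mem hg))
          (by rw [h3]; exact inv_cases hg _ (im_none σ) (im_zero σ))
        refine ⟨p, hp, ?_⟩
        rcases h4 with h4 | h4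
        · rw [h4]
        · rw [h4, map_mul, pi_c hd, one_mul]
      rw [← DD_perfect hd perf_im, Subgroup.commutator_le]
      intro a ha b hb
      rw [Subgroup.mem_comap, map_commutatorElement]
      obtain ⟨p, hp, e1⟩ := key a ha
      obtain ⟨q, hq, e2⟩ := key b hb
      have e3 : ⁅(MulAut.conj g).toMonoidHom a, (MulAut.conj g).toMonoidHom b⁆ = ⁅p, q⁆ :=
        comm_eq_of_pi hd e1 e2
      rw [e3, commutatorElement_def]
      exact P.mul_mem (P.mul_mem (P.mul_mem hp hq) (P.inv_mem hp)) (P.inv_mem hq)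
    have h3 : g * m * g⁻¹ ∈ P := h2 hm
    have h4 : g * (e * m) * g⁻¹ = (g * e * g⁻¹) * (g * m * g⁻¹) := by group
    rw [h4]
    exact P.mul_mem h1 h3
  -- commutators
  have hc1 : ∀ g h : L, π g ∈ Nn → π h ∈ Nn → Fx (π g) → ⁅g, h⁆ ∈ P := by
    intro g h hg hh hf
    obtain ⟨p, hp, h1⟩ := hdec g hg hf
    have h2 : ⁅g, h⁆ = ⁅p, h⁆ := by
      apply comm_eq_of_pi hd _ rfl
      rcases h1 with h1 | h1
      · rw [h1]
      · rw [h1, map_mul, pi_c hd, one_mul]
    rw [h2, commutatorElement_def]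
    have h3 : p * h * p⁻¹ * h⁻¹ = p * (h * p⁻¹ * h⁻¹) := by group
    rw [h3]
    exact P.mul_mem hp (hnorm h hh _ (P.inv_mem hp))
  have hc2 : ∀ g h : L, π g ∈ Nn → π h ∈ Nn → ⁅g, h⁆ ∈ P := by
    intro g h hg hh
    rcases Nn_cases hg with h1 | h1
    · exact hc1 g h hg hh h1
    rcases Nn_cases hh with h2 | h2
    · have h3 := P.inv_mem (hc1 h g hh hg h2)
      rwa [commutatorElement_inv] at h3
    · have h3 : Fx (π (g⁻¹ * h)) := by
        unfold Fx
        rw [map_mul, map_inv, map_mul, map_inv, mul_smul, h2, ← h1, inv_smul_smul]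
      have h4 : π (g⁻¹ * h) ∈ Nn := by
        rw [map_mul, map_inv]; exact Nn.mul_mem (Nn.inv_mem hg) hh
      have h5 := P.inv_mem (hc1 (g⁻¹ * h) g h4 hg h3)
      rw [commutatorElement_inv] at h5
      have h6 := hnorm g hg _ h5
      have h7 : ⁅g, h⁆ = g * ⁅g, g⁻¹ * h⁆ * g⁻¹ := by
        simp only [commutatorElement_def]; group
      rw [h7]
      exact h6
  -- the end
  have hc : c ∈ Nn.comap π := by
    rw [Subgroup.mem_comap, pi_c hd]; exact Nn.one_mem
  have h1 := hd.toCtr.hom_eq_one (P := Nn.comap π) hc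
    (by rw [Subgroup.index_comap_of_surjective _ hd.surj]; exact odd_index)
    (B := Abelianization (Nn.comap π)) Abelianization.of
  have h2 : (⟨c, hc⟩ : Nn.comap π) ∈ commutator (Nn.comap π) := by
    rw [← Abelianization.ker_of]; exact h1
  have h3 : commutator (Nn.comap π) ≤ P.subgroupOf (Nn.comap π) := by
    rw [commutator_def, Subgroup.commutator_le]
    rintro ⟨a, ha⟩ _ ⟨b, hb⟩ _
    exact hc2 a b ha hb
  exact hcP (h3 h2)

end main

/-- **The multiplier of `Co2` has odd order.** -/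
theorem noDouble : NoDouble Spor.Co2 := fun _ _ _ _ _ hd => false_of_dbl hd

theorem co2 {X : Type*} [Group X] (h : Spor.IsoCo2 X) : NoDouble X := by
  obtain ⟨e⟩ := h
  exact noDouble.congr e.symm

end Cfsg.Agent.KFacts.MulCoTwo.Main
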